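import Groth.Agent.SplitRootUnique.Basic
import Groth.Agent.GrpSchLib.RankOneBase

/-!
# The root datum of a splitting is determined by the group
-/

universe u

open CategoryTheory CategoryTheory.Limits MonoidalCategory CartesianMonoidalCategory MonObj GrpObj AlgebraicGeometry

attribute [local instance] CategoryTheory.Hom.monoid CategoryTheory.Hom.group
set_option linter.style.haveILetI false
set_option linter.unusedSectionVars false

namespace Groth.Agent.SplitRootUnique

open Deform.Chev (Pt pimg)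
open Deform.Borel (conj comp_conj pt_conj conj_one conj_left_inv conj_right_inv)
open GrpSchLib.Kunneth (Fn ev evPt evPt_comp ev_ev ev_apply)
open Deform.DiagMaps (DSmap_comp DSmap_id)

noncomputable section

variable {k : Type u} [Field k]

theorem ev_comp {T T' X : Over (Bk k)} (u : T ⟶ T') (g : T' ⟶ X) (f : Fn X) :
    ev (u ≫ g) f = ev u (ev g f) := rfl

theorem gmFn_const {X : Over (Bk k)} (s : Pt (Red.Gm (Bk k))) :
    Red.gmFn (toUnit X ≫ s) = algebraMap k (Fn X) (evPt s (Red.gmFn (𝟙 (Red.Gm (Bk k))))) := by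
  have h : Red.gmFn (toUnit X ≫ s) = ev (toUnit X) (ev s (Red.gmFn (𝟙 (Red.Gm (Bk k))))) := by
    rw [ev_apply, ev_apply, ← GmPts.gmFn_comp, ← GmPts.gmFn_comp, Category.comp_id]
  rw [h, Deform.Borel.ev_pt_eq, AlgHom.commutes]

variable [IsAlgClosed k] {G : Over (Bk k)} [GrpObj G]

/-- The split torus as a subgroup of `G`. -/
def jT (D : Red.SplitRed G) : Red.DS (Bk k) D.M ⟶ G := D.split.inv.hom.hom ≫ D.i

variable (D D' : Red.SplitRed G)

instance isMonHom_jT : IsMonHom (jT D) := by
  haveI := D.maximalTorus.1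
  haveI : IsMonHom D.split.inv.hom.hom := D.split.inv.hom.isMonHom_hom
  unfold jT
  infer_instance

instance mono_jT : Mono (jT D) := by
  haveI := D.maximalTorus.2.1
  haveI : IsIso D.split.inv.hom.hom := ((Grp.forget _).mapIso D.split.symm).isIso_hom
  unfold jT
  infer_instance

/-- Homomorphisms between diagonalisable groups come from character maps. -/
theorem exists_eq_DSmap {M M' : Type} [AddCommGroup M] [AddCommGroup M'] [Module.Finite ℤ M']
    (α : Red.DS (Bk k) M ⟶ Red.DS (Bk k) M') [IsMonHom α] : ∃ e : M' →+ M, α = Red.DSmap (Bk k) e := by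
  haveI : AddGroup.FG M' := Module.Finite.iff_addGroup_fg.mp ‹_›
  obtain ⟨e, he⟩ := Deform.DiagMaps.exists_rep (Deform.DiagMaps.chartDS (𝟙 (Bk k)) M)
    (Deform.DiagMaps.chartDS (𝟙 (Bk k)) M') α
  exact ⟨e, Deform.Luna.eq_DSmap_of_rep he⟩

/-- A character map giving a monomorphism is surjective. -/
theorem surjective_of_mono {M M' : Type} [AddCommGroup M] [AddCommGroup M'] (e : M' →+ M)
    [Mono (Red.DSmap (Bk k) e)] : Function.Surjective e :=
  Deform.DiagMaps.surjective_of_rep (Deform.DiagMaps.rep_DSmap (β := 𝟙 (Bk k)) e)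
    (GrpSchLib.HomMonoLocus.inj_of_mono ((Over.forget _).map_mono ((Over.pullback (𝟙 (Bk k))).map (Red.DSmap (Bk k) e))))

theorem isMonHom_of_comp_mono' {X Y Z : Over (Bk k)} [GrpObj X] [GrpObj Y] [GrpObj Z] (f : X ⟶ Y) (j : Y ⟶ Z)
    [IsMonHom j] [Mono j] [IsMonHom (f ≫ j)] : IsMonHom f := by
  refine ⟨?_, ?_⟩
  · rw [← cancel_mono j, Category.assoc, IsMonHom.one_hom (f ≫ j), IsMonHom.one_hom j]
  · rw [← cancel_mono j, Category.assoc, IsMonHom.mul_hom (f ≫ j), Category.assoc, IsMonHom.mul_hom j,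
      MonoidalCategory.tensorHom_comp_tensorHom_assoc]

/-- Conjugation carries the first torus into the second. -/
theorem exists_transport (g : Pt G)
    (hg : ∀ (X : Over (Bk k)) (t : X ⟶ D.T), ∃ t' : X ⟶ D'.T,
      (toUnit X ≫ g) * (t ≫ D.i) * (toUnit X ≫ g)⁻¹ = t' ≫ D'.i) :
    ∃ e : D'.M →+ D.M, Function.Surjective e ∧ Red.DSmap (Bk k) e ≫ jT D' = jT D ≫ conj g := by
  obtain ⟨t', ht'⟩ := hg _ D.split.inv.hom.hom
  let α : Red.DS (Bk k) D.M ⟶ Red.DS (Bk k) D'.M := t' ≫ D'.split.hom.hom.hom
  have hα : α ≫ jT D' = jT D ≫ conj g := by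
    rw [comp_conj]
    show _ = (toUnit _ ≫ g) * jT D * (toUnit _ ≫ g)⁻¹
    refine Eq.trans ?_ ht'.symm
    simp only [α, jT, Category.assoc]
    rw [← Category.assoc D'.split.hom.hom.hom]
    exact congrArg (t' ≫ ·) ((congrArg (· ≫ D'.i) (congrArg (fun m => m.hom.hom) D'.split.hom_inv_id)).trans
      (Category.id_comp _))
  haveI : IsMonHom (α ≫ jT D') := by rw [hα]; infer_instance
  haveI : IsMonHom α := isMonHom_of_comp_mono' α (jT D')
  haveI : Mono (α ≫ jT D') := by rw [hα]; infer_instance
  haveI : Mono α := mono_of_mono α (jT D')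
  obtain ⟨e, he⟩ := exists_eq_DSmap α
  haveI : Mono (Red.DSmap (Bk k) e) := he ▸ ‹Mono α›
  exact ⟨e, surjective_of_mono (k := k) e, he ▸ hα⟩

/-- The tangent vector of a root homomorphism. -/
theorem exists_root_vector (a : D.idx) :
    ∃ x : Fn G →ₗ[k] k, IsPD (evPt (1 : Pt G)) x ∧ x ≠ 0 ∧ ∀ t : Pt (Red.DS (Bk k) D.M),
      x ∘ₗ (ev (conj (t ≫ jT D))).toLinearMap = val t (Red.chi (Bk k) (D.P.root a)) • x := by
  haveI : IsAffineHom G.hom := D.reductive.1
  haveI : IsAffine G.left := isAffine_of_isAffineHom G.hom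
  obtain ⟨hu, huc, hact⟩ := D.rootHom a
  haveI := hu; haveI := huc
  obtain ⟨d, hd, hd1, hdy⟩ := exists_deriv_Ga (k := k)
  refine ⟨d ∘ₗ (ev (D.u a)).toLinearMap, hd.comp_ev _, fun h => ?_, fun t => ?_⟩
  · obtain ⟨f, hf⟩ := (IsClosedImmersion.isAffine_surjective_of_isAffine (f := (D.u a).left)).2
      (Red.gaFn (𝟙 (Red.Ga (Bk k))))
    have := LinearMap.congr_fun h f
    rw [LinearMap.comp_apply, AlgHom.toLinearMap_apply, ev_apply, hf, hd1, LinearMap.zero_apply] at this
    exact one_ne_zero this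
  · obtain ⟨y, hy, hyf⟩ := hact _ (toUnit _ ≫ t ≫ D.split.inv.hom.hom) (𝟙 (Red.Ga (Bk k)))
    have hy' : y ≫ D.u a = D.u a ≫ conj (t ≫ jT D) := by
      rw [hy, comp_conj, Category.id_comp]
      simp only [jT, AGF.conjBy, Category.assoc]
    have hc : Red.gaFn y =
        val t (Red.chi (Bk k) (D.P.root a)) • Red.gaFn (𝟙 (Red.Ga (Bk k))) := by
      have h1 : (toUnit (Red.Ga (Bk k)) ≫ t ≫ D.split.inv.hom.hom) ≫
          (D.split.hom.hom.hom ≫ Red.chi (Bk k) (D.P.root a)) =
          toUnit (Red.Ga (Bk k)) ≫ (t ≫ Red.chi (Bk k) (D.P.root a)) := by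
        simp only [Category.assoc]
        rw [← Category.assoc D.split.inv.hom.hom,
          show D.split.inv.hom.hom ≫ D.split.hom.hom.hom = 𝟙 _ from
            congrArg (fun m => m.hom.hom) D.split.inv_hom_id, Category.id_comp]
      rw [hyf, h1, gmFn_const, Algebra.smul_def, val, ← evPt_comp, ev_apply, ← GmPts.gmFn_comp, Category.comp_id]
    refine LinearMap.ext fun f => ?_
    show d (ev (D.u a) (ev (conj (t ≫ jT D)) f)) = _
    rw [← ev_comp, ← hy', ev_comp]
    exact LinearMap.congr_fun (hdy _ y hc) (ev (D.u a) f)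

/-- The dimension of the group. -/
theorem dim_eq : topologicalKrullDim G.left =
    ((Module.finrank ℤ D.M + Fintype.card D.idx : ℕ) : WithBot ℕ∞) := by
  haveI : Nonempty ↥(Bk k) := inferInstanceAs (Nonempty (PrimeSpectrum k))
  let s : ↥(Bk k) := Classical.arbitrary _
  haveI := Deform.Borel.isIso_geomPt (k := k) s
  rw [← D.dim_fibre s]
  exact (IsHomeomorph.topologicalKrullDim_eq _
    (Scheme.homeoOfIso (asIso (pullback.fst G.hom (Red.geomPt s)))).isHomeomorph).symm

set_option maxHeartbeats 1600000 in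
/-- A non-zero eigenvector of non-trivial weight is attached to a root. -/
theorem exists_root_eq (x : Fn G →ₗ[k] k) (hx : IsPD (evPt (1 : Pt G)) x) (hx0 : x ≠ 0) (wt : D.M) (hwt : wt ≠ 0)
    (he : ∀ t : Pt (Red.DS (Bk k) D.M),
      x ∘ₗ (ev (conj (t ≫ jT D))).toLinearMap = val t (Red.chi (Bk k) wt) • x) :
    ∃ a, D.P.root a = wt := by
  classical
  by_contra hne
  push Not at hne
  haveI : IsAffineHom G.hom := D.reductive.1
  haveI : Smooth G.hom := D.reductive.2.1
  haveI : IsAffine G.left := isAffine_of_isAffineHom G.hom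
  haveI : LocallyOfFiniteType (Red.DS (Bk k) D.M).hom := by
    haveI : AddGroup.FG D.M := Module.Finite.iff_addGroup_fg.mp inferInstance
    exact GrpSchLib.MultTypeLft.lft (Deform.SplitQuot.isMultTypeFT_DS (Bk k) D.M)
  haveI : QuasiCompact G.hom := inferInstance
  haveI : IsClosedImmersion (jT D).left := Deform.Borel.isClosedImmersion_of_mono (jT D)
  haveI : IsCommMonObj (Red.DS (Bk k) D.M) := GrpSchLib.RankOne.isCommMonObj_bc (Limits.IsTerminal.from specULiftZIsTerminal (Bk k))
    (Red.diag (ULift.{u} ℤ) D.M)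
  choose v hv hv0 hve using exists_root_vector D
  let bas := Module.Free.chooseBasis ℤ D.M
  let J := Module.Free.ChooseBasisIndex ℤ D.M
  choose dt hdt hdtf using fun l : J => exists_deriv_DS (k := k) (M := D.M)
    ((Int.castAddHom k).comp (bas.coord l).toAddMonoidHom)
  let w : J → (Fn G →ₗ[k] k) := fun l => dt l ∘ₗ (ev (jT D)).toLinearMap
  have hfix : ∀ (t : Pt (Red.DS (Bk k) D.M)) (l : J), w l ∘ₗ (ev (conj (t ≫ jT D))).toLinearMap = w l := by
    intro t l
    have h1 : jT D ≫ conj (t ≫ jT D) = jT D := by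
      rw [comp_conj]
      show (toUnit _ ≫ t ≫ jT D) * jT D * (toUnit _ ≫ t ≫ jT D)⁻¹ = jT D
      have h2 : (toUnit _ ≫ t) * 𝟙 (Red.DS (Bk k) D.M) * (toUnit _ ≫ t)⁻¹ = 𝟙 _ := by
        have hcm : (toUnit _ ≫ t) * 𝟙 (Red.DS (Bk k) D.M) = 𝟙 (Red.DS (Bk k) D.M) * (toUnit _ ≫ t) :=
          _root_.mul_comm _ _
        rw [hcm]
        exact mul_inv_cancel_right (G := Red.DS (Bk k) D.M ⟶ Red.DS (Bk k) D.M) _ _
      calc _ = ((toUnit _ ≫ t) * 𝟙 (Red.DS (Bk k) D.M) * (toUnit _ ≫ t)⁻¹) ≫ jT D := by
            simp only [MonObj.mul_comp, GrpObj.inv_comp, Category.assoc, Category.id_comp]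
        _ = jT D := by rw [h2, Category.id_comp]
    refine LinearMap.ext fun f => ?_
    show dt l (ev (jT D) (ev (conj (t ≫ jT D)) f)) = dt l (ev (jT D) f)
    rw [← ev_comp, h1]
  have hwi : LinearIndependent k w := by
    rw [Fintype.linearIndependent_iff]
    intro c hc l
    obtain ⟨f, hf⟩ := (IsClosedImmersion.isAffine_surjective_of_isAffine (f := (jT D).left)).2
      (Red.gmFn (Red.chi (Bk k) (bas l)))
    have := LinearMap.congr_fun hc f
    simp only [w, LinearMap.sum_apply, LinearMap.smul_apply, LinearMap.comp_apply, AlgHom.toLinearMap_apply,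
      ev_apply, hf, hdtf, AddMonoidHom.comp_apply, LinearMap.toAddMonoidHom_coe, Int.coe_castAddHom,
      Module.Basis.coord_apply, Module.Basis.repr_self, LinearMap.zero_apply, smul_eq_mul] at this
    simpa [Finsupp.single_apply] using this
  let L : Pt (Red.DS (Bk k) D.M) → ((Fn G →ₗ[k] k) →ₗ[k] (Fn G →ₗ[k] k)) := fun t =>
    LinearMap.lcomp k k (ev (conj (t ≫ jT D))).toLinearMap
  let χ : Option (Option D.idx) → D.M := fun o => o.elim 0 fun o' => o'.elim wt D.P.root
  have hroot : ∀ a, D.P.root a ≠ 0 := fun a => D.P.ne_zero a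
  have hχ : Function.Injective fun o (t : Pt (Red.DS (Bk k) D.M)) => val t (Red.chi (Bk k) (χ o)) := by
    have hinj : Function.Injective χ := by
      rintro (_ | _ | a) (_ | _ | b) h
      all_goals first
        | rfl
        | exact absurd h hwt
        | exact absurd h.symm hwt
        | exact absurd h (hroot _)
        | exact absurd h.symm (hroot _)
        | exact absurd h (hne _)
        | exact absurd h.symm (hne _)
        | exact congrArg (fun c => some (some c)) (D.P.root.injective h)
    intro o o' h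
    by_contra hoo
    obtain ⟨t, ht⟩ := exists_val_ne (k := k) (hinj.ne hoo)
    exact ht (congrFun h t)
  have hzero : ∀ t : Pt (Red.DS (Bk k) D.M), val t (Red.chi (Bk k) (0 : D.M)) = 1 := by
    intro t
    haveI : IsMonHom (Red.chi (Bk k) (0 : D.M)) := Deform.DiagMaps.isMonHom_DSmap _
    have : Red.chi (Bk k) (0 : D.M) = 1 := by
      rw [Red.chi, show zmultiplesHom D.M 0 = 0 by ext; simp, Deform.DiagMaps.DSmap_zero]
    rw [val, this, GmPts.gmFn_one, _root_.map_one]
  let fam : D.idx ⊕ (Unit ⊕ J) → (Fn G →ₗ[k] k) := Sum.elim v (Sum.elim (fun _ => x) w)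
  have hli : LinearIndependent k fam := by
    rw [Fintype.linearIndependent_iff]
    intro c hc
    simp only [Fintype.sum_sum_type, Finset.univ_unique, Finset.sum_singleton, fam, Sum.elim_inl, Sum.elim_inr]
      at hc
    set y := ∑ l : J, c (Sum.inr (Sum.inr l)) • w l with hy
    have hyfix : ∀ t, L t y = y := fun t => by
      simp only [hy, map_sum, map_smul]
      exact Finset.sum_congr rfl fun l _ => congrArg _ (hfix t l)
    have hy0 : y = 0 := by
      by_contra hy0
      let fam' : Option (Option D.idx) → (Fn G →ₗ[k] k) := fun o => o.elim y fun o' => o'.elim x v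
      have h1 := linearIndependent_eigen L fam' (fun o t => val t (Red.chi (Bk k) (χ o))) hχ
        (fun o => by rcases o with _ | _ | a <;> [exact hy0; exact hx0; exact hv0 a])
        (fun t o => by
          rcases o with _ | _ | a
          · show L t y = val t (Red.chi (Bk k) (0 : D.M)) • y
            rw [hzero, one_smul, hyfix]
          · exact he t
          · exact hve a t)
      have h2 := Fintype.linearIndependent_iff.1 h1
        (fun o => o.elim 1 fun o' => o'.elim (c (Sum.inr (Sum.inl default))) fun a => c (Sum.inl a))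
        (by
          simp only [Fintype.sum_option, fam', Option.elim, one_smul]
          rw [← hc]
          abel) none
      exact one_ne_zero h2
    have hl : ∀ l, c (Sum.inr (Sum.inr l)) = 0 := Fintype.linearIndependent_iff.1 hwi _ (hy ▸ hy0)
    let fam'' : Option D.idx → (Fn G →ₗ[k] k) := fun o' => o'.elim x v
    have h1 := linearIndependent_eigen L fam'' (fun o t => val t (Red.chi (Bk k) (χ (some o))))
      (hχ.comp (Option.some_injective _))
      (fun o => by rcases o with _ | a <;> [exact hx0; exact hv0 a])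
      (fun t o => by rcases o with _ | a <;> [exact he t; exact hve a t])
    have h2 := Fintype.linearIndependent_iff.1 h1
      (fun o' => o'.elim (c (Sum.inr (Sum.inl default))) fun a => c (Sum.inl a))
      (by
        simp only [Fintype.sum_option, fam'', Option.elim]
        rw [hy0, add_zero] at hc
        rw [← hc]
        abel)
    rintro (a | ⟨⟨⟩⟩ | l)
    · exact h2 (some a)
    · exact h2 none
    · exact hl l
  have hpd : ∀ q, IsPD (evPt (1 : Pt G)) (fam q) := by
    rintro (a | u | l)
    · exact hv a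
    · exact hx
    · exact (hdt l).comp_ev _
  have hcard := card_le_dim G fam hpd hli
  rw [dim_eq D, Fintype.card_sum, Fintype.card_sum, Fintype.card_unit,
    Module.finrank_eq_card_chooseBasisIndex, Nat.cast_le] at hcard
  have hJ : Fintype.card J = Fintype.card (Module.Free.ChooseBasisIndex ℤ D.M) := Fintype.card_congr (Equiv.refl _)
  omega

/-- Transported roots are roots. -/
theorem exists_root_transport (g : Pt G) (e : D'.M ≃+ D.M)
    (h : Red.DSmap (Bk k) e.toAddMonoidHom ≫ jT D' = jT D ≫ conj g) (a : D.idx) :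
    ∃ a', D'.P.root a' = e.symm (D.P.root a) := by
  haveI : IsAffineHom G.hom := D.reductive.1
  obtain ⟨v, hv, hv0, hve⟩ := exists_root_vector D a
  refine exists_root_eq D' (v ∘ₗ (ev (conj g)).toLinearMap) (hv.comp_ev _) (fun h0 => hv0 ?_) _ ?_ fun t' => ?_
  · refine LinearMap.ext fun f => ?_
    have h1 := LinearMap.congr_fun h0 (ev (conj g⁻¹) f)
    rwa [LinearMap.comp_apply, AlgHom.toLinearMap_apply, ← ev_comp, conj_right_inv] at h1
  · simp [D.P.ne_zero a]
  · let t : Pt (Red.DS (Bk k) D.M) := t' ≫ Red.DSmap (Bk k) e.symm.toAddMonoidHom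
    have ht : t ≫ Red.DSmap (Bk k) e.toAddMonoidHom = t' := by
      rw [Category.assoc, DSmap_comp, show e.symm.toAddMonoidHom.comp e.toAddMonoidHom = AddMonoidHom.id _ from
        AddMonoidHom.ext e.symm_apply_apply, DSmap_id, Category.comp_id]
    have h2 : conj g ≫ conj (t' ≫ jT D') = conj (t ≫ jT D) ≫ conj g := by
      rw [Deform.Borel.conj_mul, Deform.Borel.conj_mul]
      congr 1
      rw [← ht, Category.assoc, h, ← Category.assoc, pt_conj, inv_mul_cancel_right]
    have h3 : val t' (Red.chi (Bk k) (e.symm (D.P.root a))) = val t (Red.chi (Bk k) (D.P.root a)) := by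
      rw [val_comp, DSmap_chi]
      rfl
    refine LinearMap.ext fun f => ?_
    show v (ev (conj g) (ev (conj (t' ≫ jT D')) f)) = _
    rw [← ev_comp, h2, ev_comp, h3]
    exact LinearMap.congr_fun (hve t) (ev (conj g) f)

/-- The character maps realised by normalising points are finite in number. -/
theorem finite_realised :
    Set.Finite {w : D.M →+ D.M | ∃ n : Pt G, jT D ≫ conj n = Red.DSmap (Bk k) w ≫ jT D} := by
  haveI : IsAffineHom G.hom := D.reductive.1
  haveI : Smooth G.hom := D.reductive.2.1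
  haveI : IsAffine G.left := isAffine_of_isAffineHom G.hom
  let bas := Module.Free.chooseBasis ℤ D.M
  let bas' := bas.reindex (Fintype.equivFin _)
  have hT : Red.IsTorus (Red.DS (Bk k) D.M) := Deform.isTorus_of_split _
    (Deform.SplitQuot.nonempty_DS_congr bas'.equivFun.symm.toAddEquiv)
  obtain ⟨N, t, hN, htN, hreg⟩ := Deform.Borel.exists_regular G hT (jT D)
  refine Set.Finite.of_finite_image (f := fun w => t ≫ Red.DSmap (Bk k) w)
    ((Deform.Borel.finite_torsion (Red.DS (Bk k) D.M) hT N fun h => hN (by simp [h])).subset ?_) ?_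
  · rintro _ ⟨w, -, rfl⟩
    show (t ≫ Red.DSmap (Bk k) w) ^ N = 1
    rw [← MonObj.pow_comp, htN, MonObj.one_comp]
  · rintro w ⟨n, hn⟩ w' ⟨n', hn'⟩ hww
    have hp : ∀ (m : Pt G) (v : D.M →+ D.M), jT D ≫ conj m = Red.DSmap (Bk k) v ≫ jT D →
        ∀ p : Pt (Red.DS (Bk k) D.M), (p ≫ Red.DSmap (Bk k) v) ≫ jT D = m * (p ≫ jT D) * m⁻¹ :=
      fun m v hm p => by rw [Category.assoc, ← hm, ← Category.assoc, pt_conj]
    have hc : (n'⁻¹ * n) * (t ≫ jT D) = (t ≫ jT D) * (n'⁻¹ * n) := by
      have h1 : n * (t ≫ jT D) * n⁻¹ = n' * (t ≫ jT D) * n'⁻¹ := by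
        rw [← hp n w hn, ← hp n' w' hn']
        exact congrArg (· ≫ jT D) hww
      calc (n'⁻¹ * n) * (t ≫ jT D) = n'⁻¹ * (n * (t ≫ jT D) * n⁻¹) * n := by group
        _ = _ := by rw [h1]; group
    refine eq_of_forall_pt (k := k) w w' fun p => ?_
    rw [← cancel_mono (jT D), hp n w hn, hp n' w' hn']
    have h2 := hreg _ hc p
    calc n * (p ≫ jT D) * n⁻¹ = n' * ((n'⁻¹ * n) * (p ≫ jT D)) * n⁻¹ := by group
      _ = _ := by rw [h2]; group

/-- Transported coroots are coroots. -/
theorem coroot_transport (g : Pt G) (e : D'.M ≃+ D.M)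
    (h : Red.DSmap (Bk k) e.toAddMonoidHom ≫ jT D' = jT D ≫ conj g) (a : D.idx) (a' : D'.idx)
    (ha : e (D'.P.root a') = D.P.root a) (x : D.M) :
    D.P.coroot' a x = D'.P.coroot' a' (e.symm x) := by
  have hrefl : ∀ (E : Red.SplitRed G) (b : E.idx), ∃ n : Pt G,
      jT E ≫ conj n = Red.DSmap (Bk k) (E.P.reflection b).toLinearMap.toAddMonoidHom ≫ jT E := fun E b => by
    obtain ⟨n, hn⟩ := E.refl b
    refine ⟨n, ?_⟩
    rw [comp_conj]
    refine (hn _ E.split.inv.hom.hom).trans ?_
    rw [← Category.assoc E.split.inv.hom.hom,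
      show E.split.inv.hom.hom ≫ E.split.hom.hom.hom = 𝟙 _ from
        congrArg (fun m => m.hom.hom) E.split.inv_hom_id, Category.id_comp]
    rfl
  obtain ⟨n, hn⟩ := hrefl D a
  obtain ⟨n', hn'⟩ := hrefl D' a'
  let s := (D.P.reflection a).toLinearMap.toAddMonoidHom
  let s' : D.M →+ D.M := e.toAddMonoidHom.comp
    ((D'.P.reflection a').toLinearMap.toAddMonoidHom.comp e.symm.toAddMonoidHom)
  have hback : Red.DSmap (Bk k) e.symm.toAddMonoidHom ≫ jT D = jT D' ≫ conj g⁻¹ := by
    have h1 := congrArg (fun m => Red.DSmap (Bk k) e.symm.toAddMonoidHom ≫ m ≫ conj g⁻¹) h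
    simp only [Category.assoc, conj_right_inv, Category.comp_id] at h1
    rw [← h1, ← Category.assoc (Red.DSmap (Bk k) e.symm.toAddMonoidHom), DSmap_comp,
      show e.symm.toAddMonoidHom.comp e.toAddMonoidHom = AddMonoidHom.id _ from
        AddMonoidHom.ext e.symm_apply_apply, DSmap_id, Category.id_comp]
  have hs' : jT D ≫ conj (g⁻¹ * n' * g) = Red.DSmap (Bk k) s' ≫ jT D := by
    rw [← Deform.Borel.conj_mul, ← Deform.Borel.conj_mul, ← Category.assoc, ← h, Category.assoc, ← Category.assoc (jT D'), hn', Category.assoc,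
      ← hback, ← Category.assoc (Red.DSmap (Bk k) (D'.P.reflection a').toLinearMap.toAddMonoidHom), DSmap_comp,
      ← Category.assoc, DSmap_comp]
  let F : D.M → ℤ := fun y => D'.P.coroot' a' (e.symm y) - D.P.coroot' a y
  let α := D.P.root a
  have hes : e.symm α = D'.P.root a' := by rw [← e.symm_apply_apply (D'.P.root a'), ha]
  have hsx : ∀ y, s y = y - D.P.coroot' a y • α := fun y => D.P.reflection_apply a y
  have hs'x : ∀ y, s' y = y - D'.P.coroot' a' (e.symm y) • α := fun y => by
    show e (D'.P.reflection a' (e.symm y)) = _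
    rw [D'.P.reflection_apply, map_sub, map_zsmul, e.apply_symm_apply, ha]
  have h2 : D.P.coroot' a α = 2 := D.P.root_coroot_two a
  have h2' : D'.P.coroot' a' (e.symm α) = 2 := by rw [hes]; exact D'.P.root_coroot_two a'
  have hFa : F α = 0 := by simp only [F, h2, h2', sub_self]
  have hFz : ∀ (y : D.M) (c : ℤ), F (y + c • α) = F y := fun y c => by
    simp only [F, map_add, map_zsmul, h2, h2', smul_eq_mul]
    ring
  let w : D.M →+ D.M := s.comp s'
  have hwx : ∀ y, w y = y + F y • α := fun y => by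
    show s (s' y) = _
    rw [hs'x, hsx, map_sub, map_zsmul, h2]
    simp only [F, smul_eq_mul]
    module
  have hwn : ∀ (m : ℕ) y, (w^[m]) y = y + ((m : ℤ) * F y) • α := fun m y => by
    induction m with
    | zero => simp
    | succ m ih =>
      rw [Function.iterate_succ_apply', ih, hwx, hFz]
      push_cast
      rw [add_assoc, ← add_smul]
      ring_nf
  let pw : ℕ → (D.M →+ D.M) := fun m => Nat.rec (AddMonoidHom.id _) (fun _ f => w.comp f) m
  have hpw : ∀ m y, pw m y = (w^[m]) y := fun m y => by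
    induction m with
    | zero => rfl
    | succ m ih => rw [Function.iterate_succ_apply', ← ih]; rfl
  have hw : jT D ≫ conj ((g⁻¹ * n' * g) * n) = Red.DSmap (Bk k) w ≫ jT D := by
    rw [← Deform.Borel.conj_mul, ← Category.assoc, hn, Category.assoc, hs', ← Category.assoc, DSmap_comp]
  have hreal : ∀ m, ∃ p : Pt G, jT D ≫ conj p = Red.DSmap (Bk k) (pw m) ≫ jT D := fun m => by
    induction m with
    | zero => exact ⟨1, by rw [conj_one, Category.comp_id]; show _ = Red.DSmap (Bk k) (AddMonoidHom.id _) ≫ _; rw [DSmap_id, Category.id_comp]⟩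
    | succ m ih =>
      obtain ⟨p, hp⟩ := ih
      refine ⟨p * ((g⁻¹ * n' * g) * n), ?_⟩
      rw [← Deform.Borel.conj_mul, ← Category.assoc, hw, Category.assoc, hp, ← Category.assoc, DSmap_comp]
  obtain ⟨m, m', hmm, hpeq⟩ : ∃ m m', m ≠ m' ∧ pw m = pw m' := by
    by_contra hcon
    push Not at hcon
    have hinj : Function.Injective pw := fun m m' hh => by_contra fun hne => hcon m m' hne hh
    exact (Set.infinite_range_of_injective hinj) ((finite_realised D).subset (Set.range_subset_iff.2 hreal))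
  have hF0 : F x = 0 := by
    have h3 := DFunLike.congr_fun hpeq x
    rw [hpw, hpw, hwn, hwn, add_right_inj] at h3
    have h4 := smul_left_injective ℤ (D.P.ne_zero a) h3
    rcases mul_eq_mul_right_iff.1 h4 with h5 | h5
    · exact absurd (Nat.cast_injective h5) hmm
    · exact h5
  exact (sub_eq_zero.1 hF0).symm

/-- Conjugate splittings have isomorphic root data. -/
theorem nonempty_equiv (g : Pt G) (e : D'.M ≃+ D.M)
    (h : Red.DSmap (Bk k) e.toAddMonoidHom ≫ jT D' = jT D ≫ conj g) :
    Nonempty (RootPairing.Equiv D.P D'.P) := by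
  classical
  choose f hf using exists_root_transport D D' g e h
  have hfi : Function.Injective f := fun a b hab => D.P.root.injective (e.symm.injective (by
    rw [← hf, ← hf, hab]))
  have hback : Red.DSmap (Bk k) e.symm.toAddMonoidHom ≫ jT D = jT D' ≫ conj g⁻¹ := by
    have h1 := congrArg (fun m => Red.DSmap (Bk k) e.symm.toAddMonoidHom ≫ m ≫ conj g⁻¹) h
    simp only [Category.assoc, conj_right_inv, Category.comp_id] at h1
    rw [← h1, ← Category.assoc (Red.DSmap (Bk k) e.symm.toAddMonoidHom), DSmap_comp,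
      show e.symm.toAddMonoidHom.comp e.toAddMonoidHom = AddMonoidHom.id _ from
        AddMonoidHom.ext e.symm_apply_apply, DSmap_id, Category.id_comp]
  have hfs : Function.Surjective f := fun a' => by
    obtain ⟨a, ha⟩ := exists_root_transport D' D g⁻¹ e.symm hback a'
    refine ⟨a, D'.P.root.injective ?_⟩
    rw [hf, ha]
    exact e.symm_apply_apply _
  let σ := Equiv.ofBijective f ⟨hfi, hfs⟩
  let W : D.M ≃ₗ[ℤ] D'.M := e.symm.toIntLinearEquiv
  have hev : ∀ (E : Red.SplitRed G) (b : E.idx) (y : E.M), E.P.coroot' b y = E.P.coroot b y := fun E b y => by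
    show E.P.toLinearMap y (E.P.coroot b) = _
    rw [E.pairing_eq]
    rfl
  refine ⟨{ weightMap := W.toLinearMap
            coweightMap := W.toLinearMap.dualMap
            indexEquiv := σ
            weight_coweight_transpose := ?_
            root_weightMap := funext fun a => (hf a).symm
            coroot_coweightMap := funext fun a' => ?_
            bijective_weightMap := W.bijective
            bijective_coweightMap := W.dualMap.bijective }⟩
  · refine LinearMap.ext fun φ => LinearMap.ext fun y => ?_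
    show D'.P.toLinearMap (W y) φ = D.P.toLinearMap y (W.toLinearMap.dualMap φ)
    rw [D.pairing_eq, D'.pairing_eq]
    rfl
  · refine LinearMap.ext fun y => ?_
    show D'.P.coroot a' (W y) = D.P.coroot (σ.symm a') y
    rw [← hev, ← hev]
    refine (coroot_transport D D' g e h (σ.symm a') a' ?_ y).symm
    apply e.symm.injective
    rw [e.symm_apply_apply, ← hf]
    exact congrArg _ (σ.apply_symm_apply a').symm

end

end Groth.Agent.SplitRootUnique
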