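import Groth.Agent.Deform.Borel.Conj
import Groth.Agent.Deform.Borel.Rigid
import Groth.Agent.Deform.Borel.Tori
import Groth.Agent.Deform.Borel.UnipKer
import Groth.Agent.Deform.Borel.ProjPts
import Groth.Agent.Deform.Luna.MaxTorusFactor
import Groth.Agent.Deform.SplitQuot
import Groth.Agent.GrpSchLib.GaPts
import Groth.Agent.GrpSchLib.LineGroups
import Groth.Agent.GrpSchLib.SmoothRegular
import Groth.Agent.GrpSchLib.FieldDim
import Mathlib.Algebra.DualNumber

/-!
# Characters on rational points, and point derivations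
-/

universe u

open CategoryTheory CategoryTheory.Limits MonoidalCategory CartesianMonoidalCategory MonObj GrpObj AlgebraicGeometry

attribute [local instance] CategoryTheory.Hom.monoid CategoryTheory.Hom.group
set_option linter.style.haveILetI false
set_option linter.unusedSectionVars false

namespace Groth.Agent.SplitRootUnique

open Deform.Chev (Pt pimg)
open GrpSchLib.Kunneth (Fn ev evPt evPt_comp ev_ev ev_apply)
open GrpSchLib.LineGroups (spEquiv exists_hom_ev)
open DSPtsLib (CoordM pt)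

noncomputable section

variable {k : Type u} [Field k]

/-- The base. -/
abbrev Bk (k : Type u) [Field k] : Scheme.{u} := Spec (CommRingCat.of k)

/-- An algebra as a scheme over the base. -/
abbrev Alg (C : Type u) [CommRing C] [Algebra k C] : Over (Bk k) :=
  Over.mk (Spec.map (CommRingCat.ofHom (algebraMap k C)))

variable {M N : Type} [AddCommGroup M] [AddCommGroup N]

instance isAffine_DS_left : IsAffine (Red.DS (Bk k) M).left := by
  haveI : IsAffine (Red.diag (ULift.{u} ℤ) M).left := inferInstanceAs (IsAffine (Spec _))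
  exact inferInstanceAs (IsAffine (pullback (Red.diag (ULift.{u} ℤ) M).hom
    (Limits.IsTerminal.from specULiftZIsTerminal (Bk k))))

instance isAffine_Ga_left : IsAffine (Red.Ga (Bk k)).left := by
  haveI : IsAffine Red.GaZ.{u}.left := by show IsAffine (Spec _); infer_instance
  exact inferInstanceAs (IsAffine (pullback Red.GaZ.{u}.hom
    (Limits.IsTerminal.from specULiftZIsTerminal (Bk k))))

theorem gmFn_pt {B : Type u} [CommRing B] (j : Spec (CommRingCat.of B) ⟶ Bk k) (c : CoordM.{u} ℤ →+* B) :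
    Red.gmFn (pt j c) =
      (Scheme.ΓSpecIso (CommRingCat.of B)).inv (c (MonoidAlgebra.single (Multiplicative.ofAdd (1 : ℤ)) 1)) := by
  show ((pt j c).left ≫ pullback.fst _ _).appTop Red.gmCoord = _
  rw [DSPtsLib.pt_fst]
  exact (ConcreteCategory.congr_hom (Scheme.ΓSpecIso_inv_naturality (CommRingCat.ofHom c)) _).symm

theorem gmFn_pt_chi {B : Type u} [CommRing B] (j : Spec (CommRingCat.of B) ⟶ Bk k) (c : CoordM.{u} M →+* B) (m : M) :
    Red.gmFn (pt j c ≫ Red.chi (Bk k) m) =
      (Scheme.ΓSpecIso (CommRingCat.of B)).inv (c (MonoidAlgebra.single (Multiplicative.ofAdd m) 1)) := by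
  rw [Red.chi, Deform.DiagMaps.pt_DSmap, gmFn_pt, GrpSchLib.SubgroupFactor.pull_single]
  simp

theorem DSmap_chi (w : N →+ M) (n : N) : Red.DSmap (Bk k) w ≫ Red.chi (Bk k) n = Red.chi (Bk k) (w n) := by
  rw [Red.chi, Deform.DiagMaps.DSmap_comp, Red.chi]
  congr 1
  ext
  simp

/-- The value of a character at a rational point. -/
def val {T : Over (Bk k)} (t : Pt T) (χ : T ⟶ Red.Gm (Bk k)) : k := evPt t (Red.gmFn χ)

theorem val_comp {T T' : Over (Bk k)} (t : Pt T) (f : T ⟶ T') (χ : T' ⟶ Red.Gm (Bk k)) :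
    val (t ≫ f) χ = val t (f ≫ χ) := by
  rw [val, val, GmPts.gmFn_comp, ← evPt_comp]
  rfl

/-- A rational point with prescribed character values. -/
theorem exists_pt_val (f : Multiplicative M →* k) :
    ∃ t : Pt (Red.DS (Bk k) M), ∀ m, val t (Red.chi (Bk k) m) = f (Multiplicative.ofAdd m) := by
  letI : Algebra (ULift.{u} ℤ) k := ((algebraMap ℤ k).comp ULift.ringEquiv.toRingHom).toAlgebra
  let c : CoordM.{u} M →+* k := GrpSchLib.HomMonoLocus.charOf (R := ULift.{u} ℤ) f
  let t : Pt (Red.DS (Bk k) M) := pt (𝟙 (Bk k)) c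
  refine ⟨t, fun m => ?_⟩
  show (Scheme.ΓSpecIso (CommRingCat.of k)).hom (t.left.appTop (Red.gmFn (Red.chi (Bk k) m))) = _
  rw [← GmPts.gmFn_comp]
  rw [show Red.gmFn (t ≫ Red.chi (Bk k) m) =
      (Scheme.ΓSpecIso (CommRingCat.of k)).inv (c (MonoidAlgebra.single (Multiplicative.ofAdd m) 1)) from
    gmFn_pt_chi (𝟙 (Bk k)) c m, ← CommRingCat.comp_apply, Iso.inv_hom_id]
  exact GrpSchLib.HomMonoLocus.charOf_single _ _

/-- An element of infinite or large order. -/
theorem exists_zpow_ne_one [IsAlgClosed k] {n : ℤ} (hn : n ≠ 0) : ∃ z : kˣ, z ^ n ≠ 1 := by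
  classical
  obtain ⟨x, hx⟩ := Infinite.exists_notMem_finset
    (insert (0 : k) (Polynomial.nthRoots n.natAbs (1 : k)).toFinset)
  rw [Finset.mem_insert, not_or, Multiset.mem_toFinset,
    Polynomial.mem_nthRoots (Int.natAbs_pos.2 hn)] at hx
  refine ⟨Units.mk0 x hx.1, fun h => hx.2 ?_⟩
  rw [← pow_natAbs_eq_one] at h
  exact congrArg Units.val h

/-- Characters are separated by rational points. -/
theorem exists_val_ne [IsAlgClosed k] [Module.Free ℤ M] {a b : M} (hab : a ≠ b) :
    ∃ t : Pt (Red.DS (Bk k) M), val t (Red.chi (Bk k) a) ≠ val t (Red.chi (Bk k) b) := by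
  classical
  let bas := Module.Free.chooseBasis ℤ M
  obtain ⟨l, hl⟩ : ∃ l, bas.coord l (a - b) ≠ 0 := by
    by_contra h
    push Not at h
    exact hab (sub_eq_zero.1 (bas.forall_coord_eq_zero_iff.1 h))
  obtain ⟨z, hz⟩ := exists_zpow_ne_one (k := k) hl
  let f : Multiplicative M →* k :=
    { toFun := fun m => ((z ^ bas.coord l (Multiplicative.toAdd m) : kˣ) : k)
      map_one' := by simp
      map_mul' := fun x y => by rw [toAdd_mul, map_add, zpow_add, Units.val_mul] }
  obtain ⟨t, ht⟩ := exists_pt_val f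
  refine ⟨t, fun h => hz ?_⟩
  rw [ht, ht] at h
  rw [map_sub, zpow_sub, mul_inv_eq_one]
  exact Units.ext h

theorem eq_of_forall_pt [IsAlgClosed k] [Module.Free ℤ M] (w w' : N →+ M)
    (h : ∀ t : Pt (Red.DS (Bk k) M), t ≫ Red.DSmap (Bk k) w = t ≫ Red.DSmap (Bk k) w') : w = w' := by
  refine AddMonoidHom.ext fun n => by_contra fun hne => ?_
  obtain ⟨t, ht⟩ := exists_val_ne (k := k) hne
  refine ht ?_
  rw [← DSmap_chi, ← DSmap_chi, ← val_comp, ← val_comp, h t]

section Ext

variable {C : Type u} [CommRing C] [Algebra k C]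

/-- Algebra maps out of the functions on the additive group are determined by the coordinate. -/
theorem algHom_ext_Ga {φ ψ : Fn (Red.Ga (Bk k)) →ₐ[k] C}
    (h : φ (Red.gaFn (𝟙 (Red.Ga (Bk k)))) = ψ (Red.gaFn (𝟙 (Red.Ga (Bk k))))) : φ = ψ := by
  let E := spEquiv (k := k) C
  obtain ⟨g, hg⟩ := exists_hom_ev (E.toAlgHom.comp φ)
  obtain ⟨g', hg'⟩ := exists_hom_ev (E.toAlgHom.comp ψ)
  have hgg : g = g' := GrpSchLib.GaPts.gaFn_injective (by
    show Red.gaFn g = Red.gaFn g'
    rw [← Category.comp_id g, ← Category.comp_id g', GrpSchLib.GaPts.gaFn_comp, GrpSchLib.GaPts.gaFn_comp]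
    exact ((AlgHom.congr_fun hg _).trans (congrArg E h)).trans (AlgHom.congr_fun hg' _).symm)
  exact AlgHom.ext fun x => E.injective (AlgHom.congr_fun ((hg.symm.trans (congrArg ev hgg)).trans hg') x)

/-- Algebra maps out of the functions on a diagonalisable group are determined by the characters. -/
theorem algHom_ext_DS {φ ψ : Fn (Red.DS (Bk k) M) →ₐ[k] C}
    (h : ∀ m, φ (Red.gmFn (Red.chi (Bk k) m)) = ψ (Red.gmFn (Red.chi (Bk k) m))) : φ = ψ := by
  let E := spEquiv (k := k) C
  obtain ⟨g, hg⟩ := exists_hom_ev (E.toAlgHom.comp φ)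
  obtain ⟨g', hg'⟩ := exists_hom_ev (E.toAlgHom.comp ψ)
  obtain ⟨c, hc⟩ := DSPtsLib.exists_eq_pt _ g
  obtain ⟨c', hc'⟩ := DSPtsLib.exists_eq_pt _ g'
  have key : ∀ (g₀ : Alg (k := k) C ⟶ Red.DS (Bk k) M) (φ₀ : Fn (Red.DS (Bk k) M) →ₐ[k] C)
      (c₀ : CoordM.{u} M →+* C), ev g₀ = E.toAlgHom.comp φ₀ → g₀ = pt _ c₀ → ∀ m : M,
      c₀ (MonoidAlgebra.single (Multiplicative.ofAdd m) 1) = φ₀ (Red.gmFn (Red.chi (Bk k) m)) := by
    intro g₀ φ₀ c₀ h1 h2 m
    apply E.injective
    refine Eq.trans ?_ (AlgHom.congr_fun h1 (Red.gmFn (Red.chi (Bk k) m)))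
    rw [ev_apply, ← GmPts.gmFn_comp, h2]
    exact (gmFn_pt_chi _ c₀ m).symm
  have hcc : c = c' := by
    refine MonoidAlgebra.ringHom_ext (fun r => ?_) fun m => ?_
    · exact RingHom.congr_fun (DSPtsLib.ulift_ringHom_ext (c.comp MonoidAlgebra.singleOneRingHom)
        (c'.comp MonoidAlgebra.singleOneRingHom)) r
    · exact (key g φ c hg hc (Multiplicative.toAdd m)).trans
        ((h _).trans (key g' ψ c' hg' hc' (Multiplicative.toAdd m)).symm)
  have hgg : g = g' := by rw [hc, hc', hcc]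
  exact AlgHom.ext fun x => E.injective (AlgHom.congr_fun ((hg.symm.trans (congrArg ev hgg)).trans hg') x)

end Ext

section Deriv

variable {A A' : Type u} [CommRing A] [Algebra k A] [CommRing A'] [Algebra k A']

/-- A point derivation. -/
def IsPD (e : A →ₐ[k] k) (d : A →ₗ[k] k) : Prop := ∀ a b, d (a * b) = e a * d b + d a * e b

theorem IsPD.comp {e : A →ₐ[k] k} {d : A →ₗ[k] k} (h : IsPD e d) (φ : A' →ₐ[k] A) :
    IsPD (e.comp φ) (d ∘ₗ φ.toLinearMap) := fun a b => by
  simp only [LinearMap.coe_comp, Function.comp_apply, AlgHom.toLinearMap_apply, map_mul, AlgHom.comp_apply]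
  exact h _ _

theorem IsPD.map_one {e : A →ₐ[k] k} {d : A →ₗ[k] k} (h : IsPD e d) : d 1 = 0 := by
  have := h 1 1
  rw [_root_.mul_one, _root_.map_one e, _root_.one_mul, _root_.mul_one] at this
  exact left_eq_add.mp this

/-- The derivation of a point with values in the dual numbers. -/
def sndD (ψ : A →ₐ[k] DualNumber k) : A →ₗ[k] k := (TrivSqZeroExt.sndHom k k) ∘ₗ ψ.toLinearMap

theorem isPD_sndD {e : A →ₐ[k] k} (ψ : A →ₐ[k] DualNumber k) (h : ∀ a, (ψ a).fst = e a) : IsPD e (sndD ψ) :=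
  fun a b => by simp [sndD, h, mul_comm]

end Deriv

/-- The unit section read on functions commutes with homomorphisms. -/
theorem evPt_one_comp_ev {X Y : Over (Bk k)} [GrpObj X] [GrpObj Y] (f : X ⟶ Y) [IsMonHom f] :
    (evPt (1 : Pt X)).comp (ev f) = evPt (1 : Pt Y) := AlgHom.ext fun a => by
  rw [AlgHom.comp_apply, evPt_comp, MonObj.one_comp]

theorem IsPD.comp_ev {X Y : Over (Bk k)} [GrpObj X] [GrpObj Y] {d : Fn X →ₗ[k] k}
    (h : IsPD (evPt (1 : Pt X)) d) (f : X ⟶ Y) [IsMonHom f] : IsPD (evPt (1 : Pt Y)) (d ∘ₗ (ev f).toLinearMap) := by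
  rw [← evPt_one_comp_ev f]
  exact h.comp _

/-- The tangent vector of the additive group. -/
theorem exists_deriv_Ga :
    ∃ d : Fn (Red.Ga (Bk k)) →ₗ[k] k, IsPD (evPt (1 : Pt (Red.Ga (Bk k)))) d ∧
      d (Red.gaFn (𝟙 (Red.Ga (Bk k)))) = 1 ∧
      ∀ (c : k) (y : Red.Ga (Bk k) ⟶ Red.Ga (Bk k)),
        Red.gaFn y = c • Red.gaFn (𝟙 (Red.Ga (Bk k))) → d ∘ₗ (ev y).toLinearMap = c • d := by
  let E := spEquiv (k := k) (DualNumber k)
  let x : Alg (k := k) (DualNumber k) ⟶ Red.Ga (Bk k) := GrpSchLib.GaPts.ptOfFn (E DualNumber.eps)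
  let ψ : Fn (Red.Ga (Bk k)) →ₐ[k] DualNumber k := E.symm.toAlgHom.comp (ev x)
  have hψ : ψ (Red.gaFn (𝟙 (Red.Ga (Bk k)))) = DualNumber.eps := by
    show E.symm (ev x _) = _
    rw [ev_apply, ← GrpSchLib.GaPts.gaFn_comp, Category.comp_id, GrpSchLib.GaPts.gaFn_ptOfFn, E.symm_apply_apply]
  have h0 : evPt (1 : Pt (Red.Ga (Bk k))) (Red.gaFn (𝟙 (Red.Ga (Bk k)))) = 0 := by
    show (Scheme.ΓSpecIso (CommRingCat.of k)).hom ((1 : Pt (Red.Ga (Bk k))).left.appTop _) = 0
    rw [← GrpSchLib.GaPts.gaFn_comp, Category.comp_id, GrpSchLib.GaPts.gaFn_one, map_zero]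
  have hfst : (TrivSqZeroExt.fstHom k k k).comp ψ = evPt (1 : Pt (Red.Ga (Bk k))) :=
    algHom_ext_Ga (by rw [AlgHom.comp_apply, hψ, h0]; exact DualNumber.fst_eps)
  refine ⟨sndD ψ, isPD_sndD ψ fun a => AlgHom.congr_fun hfst a, ?_, fun c y hy => ?_⟩
  · show (ψ _).snd = 1
    rw [hψ]
    exact DualNumber.snd_eps
  · let sc : DualNumber k →ₐ[k] DualNumber k := TrivSqZeroExt.map (c • LinearMap.id)
    have h1 : ψ.comp (ev y) = sc.comp ψ := algHom_ext_Ga (by
      rw [AlgHom.comp_apply, AlgHom.comp_apply, ev_apply y, ← GrpSchLib.GaPts.gaFn_comp, Category.comp_id, hy]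
      refine (map_smul ψ c _).trans ?_
      show c • ψ _ = sc (ψ _)
      rw [hψ]
      exact Eq.trans ((TrivSqZeroExt.inr_smul k c (1 : k)).symm.trans (congrArg TrivSqZeroExt.inr rfl)) (TrivSqZeroExt.map_inr (c • (LinearMap.id : k →ₗ[k] k)) (1 : k)).symm)
    ext a
    show (ψ (ev y a)).snd = c * (ψ a).snd
    rw [← AlgHom.comp_apply, h1]
    simp [sc]

/-- The tangent vectors of a diagonalisable group. -/
theorem exists_deriv_DS (f : M →+ k) :
    ∃ d : Fn (Red.DS (Bk k) M) →ₗ[k] k, IsPD (evPt (1 : Pt (Red.DS (Bk k) M))) d ∧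
      ∀ m, d (Red.gmFn (Red.chi (Bk k) m)) = f m := by
  letI : Algebra (ULift.{u} ℤ) (DualNumber k) := ((algebraMap ℤ (DualNumber k)).comp ULift.ringEquiv.toRingHom).toAlgebra
  let c₀ : Multiplicative M →* DualNumber k :=
    { toFun := fun m => 1 + TrivSqZeroExt.inr (f (Multiplicative.toAdd m))
      map_one' := by simp
      map_mul' := fun a b => by
        ext <;> simp [add_comm] }
  let c : CoordM.{u} M →+* DualNumber k := GrpSchLib.HomMonoLocus.charOf (R := ULift.{u} ℤ) c₀
  let g : Alg (k := k) (DualNumber k) ⟶ Red.DS (Bk k) M := pt (Spec.map (CommRingCat.ofHom (algebraMap k (DualNumber k)))) c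
  let E := spEquiv (k := k) (DualNumber k)
  let ψ : Fn (Red.DS (Bk k) M) →ₐ[k] DualNumber k := E.symm.toAlgHom.comp (ev g)
  have hψ : ∀ m, ψ (Red.gmFn (Red.chi (Bk k) m)) = 1 + TrivSqZeroExt.inr (f m) := fun m => by
    apply E.injective
    show E (E.symm (ev g _)) = _
    rw [E.apply_symm_apply, ev_apply, ← GmPts.gmFn_comp]
    refine (gmFn_pt_chi _ c m).trans (congrArg E ?_)
    exact GrpSchLib.HomMonoLocus.charOf_single _ _
  have h1 : ∀ m, evPt (1 : Pt (Red.DS (Bk k) M)) (Red.gmFn (Red.chi (Bk k) m)) = 1 := fun m => by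
    show (Scheme.ΓSpecIso (CommRingCat.of k)).hom ((1 : Pt (Red.DS (Bk k) M)).left.appTop _) = 1
    rw [← GmPts.gmFn_comp]
    haveI : IsMonHom (Red.chi (Bk k) m) := Deform.DiagMaps.isMonHom_DSmap _
    rw [MonObj.one_comp, GmPts.gmFn_one, _root_.map_one]
  have hfst : (TrivSqZeroExt.fstHom k k k).comp ψ = evPt (1 : Pt (Red.DS (Bk k) M)) :=
    algHom_ext_DS fun m => by rw [AlgHom.comp_apply, hψ, h1]; simp
  refine ⟨sndD ψ, isPD_sndD ψ fun a => AlgHom.congr_fun hfst a, fun m => ?_⟩
  show (ψ _).snd = f m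
  rw [hψ]
  simp

/-- Point derivations at the unit of a smooth affine group span at most the dimension. -/
theorem card_le_dim [IsAlgClosed k] (G : Over (Bk k)) [GrpObj G] [IsAffine G.left] [Smooth G.hom]
    {J : Type*} [Fintype J] (d : J → (Fn G →ₗ[k] k)) (hd : ∀ j, IsPD (evPt (1 : Pt G)) (d j))
    (hli : LinearIndependent k d) : ((Fintype.card J : ℕ) : WithBot ℕ∞) ≤ topologicalKrullDim G.left := by
  classical
  haveI : IsAffineHom G.hom := isAffineHom_of_isAffine _
  haveI : LocallyOfFiniteType G.hom := inferInstance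
  let x := pimg (1 : Pt G)
  have hx : IsClosed ({x} : Set G.left) :=
    ((pointEquivClosedPoint G.hom) ⟨(1 : Pt G).left, Over.w (1 : Pt G)⟩).2
  rw [← GrpSchLib.ringKrullDim_stalk_eq hx]
  haveI := GrpSchLib.isRegularLocalRing_stalk_of_smooth G.hom x
  rw [← (isRegularLocalRing_iff _).1 inferInstance]
  refine Nat.cast_le.2 ?_
  let L := G.left.presheaf.stalk x
  let A := Fn G
  let e := evPt (1 : Pt G)
  letI : Algebra A L := TopCat.Presheaf.algebra_section_stalk G.left.presheaf ⟨x, show x ∈ (⊤ : G.left.Opens) from trivial⟩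
  let hA := isAffineOpen_top G.left
  let P := (hA.primeIdealOf ⟨x, trivial⟩).asIdeal
  haveI : IsLocalization.AtPrime L P := hA.isLocalization_stalk ⟨x, trivial⟩
  have hP : ∀ a : A, a ∈ P ↔ e a = 0 := fun a => by
    rw [Deform.Borel.evPt_eq_zero_iff, Scheme.mem_basicOpen_top, ← IsLocalization.AtPrime.to_map_mem_maximal_iff L P,
      IsLocalRing.mem_maximalIdeal]
    rfl
  have hfg : (IsLocalRing.maximalIdeal L).FG := IsNoetherian.noetherian _
  obtain ⟨gset, hcard, hgset⟩ := Submodule.FG.exists_span_finset_card_eq_spanFinrank hfg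
  obtain ⟨gen, hgen⟩ : ∃ gen : Fin (IsLocalRing.maximalIdeal L).spanFinrank → L,
      Submodule.span L (Set.range gen) = IsLocalRing.maximalIdeal L := by
    refine ⟨fun i => ((gset.equivFinOfCardEq hcard).symm i : L), ?_⟩
    convert hgset
    ext y
    exact ⟨fun ⟨i, hi⟩ => hi ▸ ((gset.equivFinOfCardEq hcard).symm i).2, fun hy => ⟨gset.equivFinOfCardEq hcard ⟨y, hy⟩, by simp⟩⟩
  choose a s has using fun i => IsLocalization.exists_mk'_eq P.primeCompl (gen i)
  have ha0 : ∀ i, e (a i) = 0 := fun i => by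
    rw [← hP, ← IsLocalization.AtPrime.to_map_mem_maximal_iff L P, ← IsLocalization.mk'_spec L (a i) (s i), has i]
    exact Ideal.mul_mem_right _ _ (hgen ▸ Submodule.subset_span ⟨i, rfl⟩)
  have key : ∀ (δ : A →ₗ[k] k), IsPD e δ → (∀ i, δ (a i) = 0) → δ = 0 := by
    intro δ hδ hδa
    have h2 : ∀ y ∈ Ideal.span (Set.range a), e y = 0 ∧ δ y = 0 := by
      intro y hy
      induction hy using Submodule.span_induction with
      | mem z hz => obtain ⟨i, rfl⟩ := hz; exact ⟨ha0 i, hδa i⟩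
      | zero => exact ⟨map_zero _, map_zero _⟩
      | add y z _ _ hy hz => exact ⟨by rw [map_add, hy.1, hz.1, add_zero], by rw [map_add, hy.2, hz.2, add_zero]⟩
      | smul r y _ hy =>
        rw [smul_eq_mul]
        exact ⟨by rw [map_mul, hy.1, mul_zero], by rw [hδ, hy.1, hy.2, mul_zero, mul_zero, add_zero]⟩
    have h3 : ∀ y : A, e y = 0 → δ y = 0 := by
      intro y hy
      have hmem : algebraMap A L y ∈ (Ideal.span (Set.range a)).map (algebraMap A L) := by
        have h4 : algebraMap A L y ∈ IsLocalRing.maximalIdeal L :=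
          (IsLocalization.AtPrime.to_map_mem_maximal_iff L P y).2 ((hP y).2 hy)
        refine (le_of_eq hgen.symm).trans (Submodule.span_le.2 ?_) h4
        rintro _ ⟨i, rfl⟩
        show gen i ∈ _
        rw [← has i, IsLocalization.mk'_eq_mul_mk'_one]
        exact Ideal.mul_mem_right _ _ (Ideal.mem_map_of_mem _ (Ideal.subset_span ⟨i, rfl⟩))
      rw [IsLocalization.algebraMap_mem_map_algebraMap_iff P.primeCompl] at hmem
      obtain ⟨m, hm, hmy⟩ := hmem
      obtain ⟨-, h5⟩ := h2 _ hmy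
      rw [hδ, hy, mul_zero, add_zero, mul_eq_zero] at h5
      exact h5.resolve_left fun h => hm ((hP m).2 h)
    refine LinearMap.ext fun y => ?_
    have h6 := h3 (y - algebraMap k A (e y)) (by rw [map_sub, AlgHom.commutes]; exact sub_self _)
    rw [map_sub, sub_eq_zero] at h6
    rw [h6, Algebra.algebraMap_eq_smul_one, map_smul, hδ.map_one, smul_zero, LinearMap.zero_apply]
  have hli' : LinearIndependent k fun (j : J) (i : Fin (IsLocalRing.maximalIdeal L).spanFinrank) => d j (a i) := by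
    rw [Fintype.linearIndependent_iff]
    intro c hc
    refine Fintype.linearIndependent_iff.1 hli c (key _ (fun y z => ?_) fun i => ?_)
    · simp only [LinearMap.sum_apply, LinearMap.smul_apply, hd _ y z, smul_eq_mul, Finset.mul_sum, Finset.sum_mul,
        ← Finset.sum_add_distrib]
      exact Finset.sum_congr rfl fun j _ => by ring
    · simpa using congrFun hc i
  simpa using hli'.fintype_card_le_finrank

/-- Vectors with distinct systems of eigenvalues are independent. -/
theorem linearIndependent_eigen {V J Tt : Type*} [AddCommGroup V] [Module k V] [Fintype J]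
    (L : Tt → (V →ₗ[k] V)) (x : J → V) (χ : J → Tt → k) (hχ : Function.Injective χ) (hx : ∀ i, x i ≠ 0)
    (hev : ∀ t i, L t (x i) = χ i t • x i) : LinearIndependent k x := by
  classical
  rw [linearIndependent_iff']
  intro s
  induction s using Finset.induction with
  | empty => simp
  | insert a s ha ih =>
    intro c hc
    have hs : ∀ i ∈ s, c i = 0 := by
      intro i hi
      obtain ⟨t, ht⟩ := Function.ne_iff.1 (hχ.ne (show i ≠ a from fun h => ha (h ▸ hi)))
      have h1 := congrArg (L t) hc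
      rw [map_sum, map_zero, Finset.sum_insert ha] at h1
      simp only [map_smul, hev] at h1
      have h2 := congrArg (χ a t • ·) hc
      simp only [smul_zero, Finset.sum_insert ha, smul_add, Finset.smul_sum] at h2
      have h3 : ∑ j ∈ s, ((χ j t - χ a t) * c j) • x j = 0 := by
        have h4 := congrArg₂ (· - ·) h1 h2
        simp only [sub_zero, smul_smul] at h4
        rw [mul_comm (c a), add_sub_add_left_eq_sub, ← Finset.sum_sub_distrib] at h4
        rw [← h4]
        exact Finset.sum_congr rfl fun j _ => by rw [← sub_smul, sub_mul, mul_comm (c j)]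
      exact (mul_eq_zero.1 (ih _ h3 i hi)).resolve_left (sub_ne_zero.2 ht)
    intro i hi
    rcases Finset.mem_insert.1 hi with rfl | hi
    · rw [Finset.sum_insert ha, Finset.sum_eq_zero fun j hj => by rw [hs j hj, zero_smul], add_zero,
        smul_eq_zero] at hc
      exact hc.resolve_right (hx _)
    · exact hs i hi

end

end Groth.Agent.SplitRootUnique
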